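import Groth.Agent.Lib.SeqKinds.Basic
import Groth.Agent.Lib.BlowUp.FlatSub
import Mathlib.RingTheory.IsTensorProduct
import Mathlib.Algebra.Category.Ring.Constructions

/-!
# Arbitrary base change of H₁-regular and quasi-regular sequences with flat quotient

For an `R`-algebra `A` and a sequence `f` in `A` with `A/(f)` flat over `R`: the images of `f` in `R' ⊗[R] A`
are again H₁-regular (quasi-regular) if `f` is.
-/

set_option autoImplicit false
set_option linter.all false
universe u

open TensorProduct MvPolynomial CategoryTheory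

namespace GrothLib.SeqKinds

variable {R A : Type u} [CommRing R] [CommRing A] [Algebra R A] (R' : Type u) [CommRing R'] [Algebra R R']
  {c : ℕ} (f : Fin c → A)

/-- `A → R' ⊗[R] A`. -/
abbrev bcHom : A →+* R' ⊗[R] A := (Algebra.TensorProduct.includeRight : A →ₐ[R] R' ⊗[R] A).toRingHom

/-- An ideal with flat quotient stays injective after base change. -/
theorem injective_lTensor_ideal (K : Ideal A) [Module.Flat R (A ⧸ K)] :
    Function.Injective ((K.subtype.restrictScalars R).lTensor R') :=
  LinearMap.lTensor_injective_of_exact_of_flat ((Ideal.Quotient.mkₐ R K).toLinearMap)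
    Ideal.Quotient.mk_surjective (K.subtype.restrictScalars R) Subtype.val_injective
    (fun a => ⟨fun h => ⟨⟨a, Ideal.Quotient.eq_zero_iff_mem.mp h⟩, rfl⟩,
      fun ⟨x, hx⟩ => hx ▸ Ideal.Quotient.eq_zero_iff_mem.mpr x.2⟩) R'

theorem lTensor_mulRight (a : A) (b : R' ⊗[R] A) :
    (LinearMap.mulRight R a).lTensor R' b = b * bcHom R' a := by
  induction b using TensorProduct.induction_on with
  | zero => simp
  | tmul r x => simp [Algebra.TensorProduct.tmul_mul_tmul]
  | add x y hx hy => rw [map_add, hx, hy, add_mul]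

/-- Multiplication by an element of an ideal, with values in the ideal. -/
def mulInto (K : Ideal A) (a : A) (ha : a ∈ K) : A →ₗ[R] K :=
  LinearMap.codRestrict (K.restrictScalars R) (LinearMap.mulRight R a) (fun x => K.mul_mem_left x ha)

theorem lTensor_mulInto (K : Ideal A) (a : A) (ha : a ∈ K) (b : R' ⊗[R] A) :
    (K.subtype.restrictScalars R).lTensor R' ((mulInto K a ha).lTensor R' b) = b * bcHom R' a := by
  rw [← LinearMap.comp_apply, ← LinearMap.lTensor_comp]
  exact lTensor_mulRight R' a b

theorem map_mem_triv {v : Fin c → A}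
    (hv : v ∈ Submodule.span A {v : Fin c → A | ∃ i j : Fin c, v = Pi.single i (f j) - Pi.single j (f i)}) :
    (fun i => bcHom R' (v i)) ∈ Submodule.span (R' ⊗[R] A) {v : Fin c → R' ⊗[R] A | ∃ i j : Fin c,
      v = Pi.single i (bcHom R' (f j)) - Pi.single j (bcHom R' (f i))} := by
  induction hv using Submodule.span_induction with
  | mem v hv =>
    obtain ⟨i, j, rfl⟩ := hv
    refine Submodule.subset_span ⟨i, j, funext fun l => ?_⟩
    show bcHom R' ((Pi.single i (f j) - Pi.single j (f i) : Fin c → A) l) = _
    rw [Pi.sub_apply, map_sub, Pi.sub_apply]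
    congr 1 <;> exact Pi.apply_single (fun _ => ⇑(bcHom (R := R) R')) (fun _ => map_zero _) _ _ _
  | zero =>
    rw [show (fun i => bcHom R' ((0 : Fin c → A) i)) = 0 from funext fun l => map_zero _]
    exact Submodule.zero_mem _
  | add v w _ _ hv hw =>
    rw [show (fun i => bcHom R' ((v + w) i)) = (fun i => bcHom R' (v i)) + fun i => bcHom R' (w i) from
      funext fun l => map_add _ _ _]
    exact add_mem hv hw
  | smul r v _ hv =>
    rw [show (fun i => bcHom R' ((r • v) i)) = bcHom R' r • fun i => bcHom R' (v i) from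
      funext fun l => map_mul _ _ _]
    exact Submodule.smul_mem _ _ hv

/-- H₁-regular sequences with flat quotient are stable under every base change. -/
theorem isH1Regular_baseChange [Module.Flat R (A ⧸ Ideal.span (Set.range f))] (hf : CAlgX.IsH1Regular f) :
    CAlgX.IsH1Regular (fun i => bcHom (R := R) R' (f i)) := by
  classical
  intro b hb
  set J := Ideal.span (Set.range f)
  set T := Submodule.span A {v : Fin c → A | ∃ i j : Fin c, v = Pi.single i (f j) - Pi.single j (f i)}
  have hmem : ∀ i, f i ∈ J := fun i => Ideal.subset_span ⟨i, rfl⟩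
  have hfmem : ∀ x : Fin c → A, ∑ i, x i * f i ∈ J := fun x =>
    Ideal.sum_mem _ fun i _ => J.mul_mem_left _ (hmem i)
  let δ : (Fin c → A) →ₗ[R] J :=
    { toFun := fun x => ⟨∑ i, x i * f i, hfmem x⟩
      map_add' := fun x y => Subtype.ext (by simp [add_mul, Finset.sum_add_distrib])
      map_smul' := fun r x => Subtype.ext (by simp [Finset.smul_sum]) }
  have hTker : ∀ x ∈ T, ∑ i, x i * f i = 0 := by
    intro x hx
    induction hx using Submodule.span_induction with
    | mem v hv =>
      obtain ⟨i, j, rfl⟩ := hv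
      simp only [Pi.sub_apply, sub_mul, Finset.sum_sub_distrib]
      rw [Fintype.sum_eq_single i (fun l hl => by simp [Pi.single_eq_of_ne hl]),
        Fintype.sum_eq_single j (fun l hl => by simp [Pi.single_eq_of_ne hl]), Pi.single_eq_same,
        Pi.single_eq_same, mul_comm, sub_self]
    | zero => simp
    | add v w _ _ hv hw => simp [add_mul, Finset.sum_add_distrib, hv, hw]
    | smul r v _ hv => simp [mul_assoc, ← Finset.mul_sum, hv]
  have hδsurj : Function.Surjective δ := fun x => by
    obtain ⟨a, ha⟩ := (Submodule.mem_span_range_iff_exists_fun A).mp x.2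
    exact ⟨a, Subtype.ext ha⟩
  have hex : Function.Exact (T.subtype.restrictScalars R) δ := fun x =>
    ⟨fun h => ⟨⟨x, hf x (congrArg Subtype.val h)⟩, rfl⟩, fun ⟨t, ht⟩ => ht ▸ Subtype.ext (hTker t.1 t.2)⟩
  let u : R' ⊗[R] (Fin c → A) := ∑ i, (LinearMap.single R (fun _ : Fin c => A) i).lTensor R' (b i)
  have hu : δ.lTensor R' u = 0 := by
    refine injective_lTensor_ideal R' J ?_
    rw [map_zero, map_sum, map_sum, ← hb]
    refine Finset.sum_congr rfl fun i _ => ?_
    rw [← LinearMap.comp_apply, ← LinearMap.comp_apply, ← LinearMap.lTensor_comp, ← LinearMap.lTensor_comp,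
      ← lTensor_mulRight]
    congr 2
    refine LinearMap.ext fun a => ?_
    show ∑ l, (Pi.single i a : Fin c → A) l * f l = a * f i
    rw [Fintype.sum_eq_single i (fun l hl => by simp [hl])]
    simp
  obtain ⟨w, hw⟩ := (lTensor_exact R' hex hδsurj u).mp hu
  have hproj : ∀ j, (LinearMap.proj j).lTensor R' u = b j := by
    intro j
    rw [map_sum, Finset.sum_eq_single j]
    · rw [← LinearMap.comp_apply, ← LinearMap.lTensor_comp, LinearMap.proj_comp_single_same, LinearMap.lTensor_id]
      rfl
    · intro i _ hij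
      rw [← LinearMap.comp_apply, ← LinearMap.lTensor_comp, LinearMap.proj_comp_single_ne R _ j i (Ne.symm hij),
        LinearMap.lTensor_zero]
      rfl
    · simp
  have hb' : b = fun j => (LinearMap.proj j).lTensor R' ((T.subtype.restrictScalars R).lTensor R' w) :=
    funext fun j => by rw [hw, hproj]
  rw [hb']
  clear hw hb'
  induction w using TensorProduct.induction_on with
  | zero => convert Submodule.zero_mem _; simp
  | tmul r t =>
    convert Submodule.smul_mem _ (r ⊗ₜ[R] (1 : A)) (map_mem_triv R' f t.2) using 1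
    funext j
    simp [Algebra.TensorProduct.tmul_mul_tmul]
  | add x y hx hy => convert add_mem hx hy using 1; funext j; simp

/-- Powers of an ideal generated by a quasi-regular sequence: flat quotients. -/
theorem flat_quot_pow [Module.Flat R (A ⧸ Ideal.span (Set.range f))] (hf : CAlgX.IsQuasiRegular f) :
    ∀ n, Module.Flat R (A ⧸ Ideal.span (Set.range f) ^ n)
  | 0 => by
    haveI : Subsingleton (A ⧸ Ideal.span (Set.range f) ^ 0) :=
      Ideal.Quotient.subsingleton_iff.mpr (by rw [pow_zero, Ideal.one_eq_top])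
    infer_instance
  | n + 1 => by
    classical
    set J := Ideal.span (Set.range f) with hJ
    let D := {α : Fin c →₀ ℕ // α.degree = n}
    let fm : (Fin c →₀ ℕ) → A := fun α => ∏ i ∈ α.support, f i ^ α i
    have hfm : ∀ α : D, fm α.1 ∈ J ^ n := by
      intro α
      have := Ideal.prod_mem_prod (s := α.1.support) (I := fun i => Ideal.span (Set.range f) ^ (α.1 i)) (x := fun i => f i ^ α.1 i)
        (fun i _ => Ideal.pow_mem_pow (Ideal.subset_span ⟨i, rfl⟩ : f i ∈ Ideal.span (Set.range f)) _)
      rw [Finset.prod_pow_eq_pow_sum] at this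
      have hd : α.1.degree = n := α.2
      rw [Finsupp.degree_apply] at hd
      rwa [hd] at this
    let Θ : (D →₀ A) →ₗ[A] A ⧸ J ^ (n + 1) :=
      Finsupp.linearCombination A fun α : D => Ideal.Quotient.mk (J ^ (n + 1)) (fm α.1)
    let red : (D →₀ A) →ₗ[A] (D →₀ A ⧸ J) := Finsupp.mapRange.linearMap (Ideal.Quotient.mkₐ A J).toLinearMap
    have hred : Function.Surjective red := Finsupp.mapRange_surjective _ (map_zero _) Ideal.Quotient.mk_surjective
    have hΘeval : ∀ a : D →₀ A, Θ a =
        Ideal.Quotient.mk (J ^ (n + 1)) (eval f (a.sum fun (α : D) (x : A) => monomial α.1 x)) := by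
      intro a
      rw [Finsupp.linearCombination_apply, Finsupp.sum, Finsupp.sum, map_sum, map_sum]
      refine Finset.sum_congr rfl fun α _ => ?_
      rw [eval_monomial, map_mul]
      rfl
    have hker : LinearMap.ker Θ = LinearMap.ker red := by
      ext a
      rw [LinearMap.mem_ker, LinearMap.mem_ker]
      constructor
      · intro h
        rw [hΘeval, Ideal.Quotient.eq_zero_iff_mem] at h
        have hcoef := hf n _ (IsHomogeneous.sum _ _ _ fun α _ => isHomogeneous_monomial _ α.2) h
        refine Finsupp.ext fun α => ?_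
        show Ideal.Quotient.mk J (a α) = 0
        have := hcoef α.1
        rw [coeff_sum, Finset.sum_eq_single α] at this
        · rw [coeff_monomial, if_pos rfl] at this
          exact Ideal.Quotient.eq_zero_iff_mem.mpr this
        · intro β _ hβ
          rw [coeff_monomial, if_neg]
          exact fun h => hβ (Subtype.ext h)
        · intro hα
          rw [Finsupp.notMem_support_iff.mp hα]
          simp
      · intro h
        rw [Finsupp.linearCombination_apply]
        refine Finset.sum_eq_zero fun α _ => ?_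
        show a α • Ideal.Quotient.mk (J ^ (n + 1)) (fm α.1) = 0
        rw [Algebra.smul_def, Ideal.Quotient.algebraMap_eq, ← map_mul, Ideal.Quotient.eq_zero_iff_mem, pow_succ']
        exact Ideal.mul_mem_mul (Ideal.Quotient.eq_zero_iff_mem.mp (DFunLike.congr_fun h α)) (hfm α)
    let θ : (D →₀ A ⧸ J) →ₗ[A] A ⧸ J ^ (n + 1) :=
      (Submodule.liftQ (LinearMap.ker red) Θ hker.ge).comp
        (red.quotKerEquivOfSurjective hred).symm.toLinearMap
    have hθred : ∀ a, θ (red a) = Θ a := by
      intro a
      show Submodule.liftQ _ Θ hker.ge ((red.quotKerEquivOfSurjective hred).symm (red a)) = _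
      rw [show (red.quotKerEquivOfSurjective hred).symm (red a) = Submodule.Quotient.mk a from
        (LinearEquiv.symm_apply_eq _).mpr rfl]
      exact Submodule.liftQ_apply _ _ _
    have hθinj : Function.Injective θ := by
      rw [injective_iff_map_eq_zero]
      intro x hx
      obtain ⟨a, rfl⟩ := hred x
      rw [hθred] at hx
      exact LinearMap.mem_ker.mp (hker ▸ LinearMap.mem_ker.mpr hx)
    let pr : (A ⧸ J ^ (n + 1)) →ₐ[A] A ⧸ J ^ n := Ideal.Quotient.factorₐ A (Ideal.pow_le_pow_right n.le_succ)
    have hpr : Function.Surjective pr := by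
      intro x
      obtain ⟨a, rfl⟩ := Ideal.Quotient.mk_surjective x
      exact ⟨Ideal.Quotient.mk _ a, rfl⟩
    have hex : Function.Exact (θ.restrictScalars R) (pr.toLinearMap.restrictScalars R) := by
      intro x
      obtain ⟨x, rfl⟩ := Ideal.Quotient.mk_surjective x
      constructor
      · intro h
        have hx : x ∈ J ^ n := Ideal.Quotient.eq_zero_iff_mem.mp h
        obtain ⟨Q, hQ, -, hQe⟩ := exists_homogeneous_eval f ⊤ n (x := x) (by rwa [Ideal.top_mul])
        refine ⟨red ((Q.support.subtype fun α => α.degree = n).sum fun α => Finsupp.single α (coeff α.1 Q)), ?_⟩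
        show θ _ = _
        rw [hθred, ← hQe, eval_eq, map_sum]
        erw [map_sum]
        rw [Finset.sum_congr rfl (fun α _ => show Θ (Finsupp.single α (coeff α.1 Q)) =
          (fun x => Ideal.Quotient.mk (J ^ (n + 1)) (coeff x Q * fm x)) α.1 by
            rw [show Θ (Finsupp.single α (coeff α.1 Q)) = coeff α.1 Q • Ideal.Quotient.mk (J ^ (n + 1)) (fm α.1)
              from Finsupp.linearCombination_single _ _ _, Algebra.smul_def, Ideal.Quotient.algebraMap_eq, ← map_mul]),
          Finset.sum_subtype_eq_sum_filter (f := fun x => Ideal.Quotient.mk (J ^ (n + 1)) (coeff x Q * fm x)),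
          Finset.filter_true_of_mem]
        intro α hα
        rw [Finsupp.degree_eq_weight_one]; exact hQ (mem_support_iff.mp hα)
      · rintro ⟨y, hy⟩
        rw [← hy]
        clear hy
        obtain ⟨a, rfl⟩ := hred y
        show pr (θ (red a)) = 0
        rw [hθred, hΘeval]
        show Ideal.Quotient.mk (J ^ n) _ = 0
        rw [Ideal.Quotient.eq_zero_iff_mem, Finsupp.sum, map_sum]
        refine Ideal.sum_mem _ fun α _ => ?_
        rw [eval_monomial]
        exact Ideal.mul_mem_left _ _ (hfm α)
    haveI := flat_quot_pow hf n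
    haveI : Module.Flat R (D →₀ A ⧸ J) := Module.Flat.of_linearEquiv (finsuppLequivDFinsupp R)
    exact GrothLib.BlowUp.flat_of_exact (θ.restrictScalars R) hθinj (pr.toLinearMap.restrictScalars R) hpr hex

/-- The coefficient modulo `J` of an element of `Jⁿ` along a quasi-regular sequence. -/
theorem exists_coeff_map (hf : CAlgX.IsQuasiRegular f) (n : ℕ) (d : Fin c →₀ ℕ) :
    ∃ L : (Ideal.span (Set.range f) ^ n : Ideal A) →ₗ[A] A ⧸ Ideal.span (Set.range f),
      ∀ (Q : MvPolynomial (Fin c) A) (h : eval f Q ∈ Ideal.span (Set.range f) ^ n), Q.IsHomogeneous n →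
        L ⟨eval f Q, h⟩ = Ideal.Quotient.mk _ (coeff d Q) := by
  classical
  set J := Ideal.span (Set.range f)
  have h : ∀ x : (J ^ n : Ideal A), ∃ Q : MvPolynomial (Fin c) A, Q.IsHomogeneous n ∧ eval f Q = x.1 := fun x => by
    obtain ⟨Q, hQ, -, hQe⟩ := exists_homogeneous_eval f ⊤ n (x := x.1) (by rw [Ideal.top_mul]; exact x.2)
    exact ⟨Q, hQ, hQe⟩
  choose Q hQ hQe using h
  have uniq : ∀ (P P' : MvPolynomial (Fin c) A), P.IsHomogeneous n → P'.IsHomogeneous n → eval f P = eval f P' →
      Ideal.Quotient.mk J (coeff d P) = Ideal.Quotient.mk J (coeff d P') := by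
    intro P P' hP hP' he
    rw [Ideal.Quotient.eq, ← coeff_sub]
    exact hf n _ (hP.sub hP') (by rw [map_sub, he, sub_self]; exact zero_mem _) d
  refine ⟨{ toFun := fun x => Ideal.Quotient.mk J (coeff d (Q x))
            map_add' := fun x y => ?_
            map_smul' := fun a x => ?_ }, fun P h hP => uniq _ _ (hQ _) hP (hQe _)⟩
  · rw [← map_add, ← coeff_add]
    exact uniq _ _ (hQ _) ((hQ x).add (hQ y)) (by rw [hQe, map_add, hQe, hQe]; rfl)
  · rw [RingHom.id_apply, Algebra.smul_def, Ideal.Quotient.algebraMap_eq, ← map_mul, ← coeff_C_mul]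
    exact uniq _ _ (hQ _) (by simpa using (isHomogeneous_C _ a).mul (hQ x))
      (by rw [hQe, map_mul, eval_C, hQe]; rfl)

/-- Quasi-regular sequences with flat quotient are stable under every base change. -/
theorem isQuasiRegular_baseChange [Module.Flat R (A ⧸ Ideal.span (Set.range f))] (hf : CAlgX.IsQuasiRegular f) :
    CAlgX.IsQuasiRegular (fun i => bcHom (R := R) R' (f i)) := by
  classical
  refine isQuasiRegular_of_eval_eq_zero _ fun n P hP hPe d => ?_
  set J := Ideal.span (Set.range f)
  haveI := flat_quot_pow (R := R) f hf n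
  let fm : (Fin c →₀ ℕ) → A := fun α => ∏ i ∈ α.support, f i ^ α i
  have hdeg : ∀ α ∈ P.support, α.degree = n := fun α hα => by
    rw [Finsupp.degree_eq_weight_one]; exact hP (mem_support_iff.mp hα)
  have heval : ∀ α, eval f (monomial α (1 : A)) = fm α := fun α => by rw [eval_monomial, one_mul]; rfl
  have hfm : ∀ α : P.support, fm α.1 ∈ J ^ n := fun α => by
    have := Ideal.prod_mem_prod (s := α.1.support) (I := fun i => Ideal.span (Set.range f) ^ (α.1 i)) (x := fun i => f i ^ α.1 i)
      (fun i _ => Ideal.pow_mem_pow (Ideal.subset_span ⟨i, rfl⟩ : f i ∈ Ideal.span (Set.range f)) _)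
    rw [Finset.prod_pow_eq_pow_sum] at this
    have hd : α.1.degree = n := hdeg α.1 α.2
    rw [Finsupp.degree_apply] at hd
    rwa [hd] at this
  let t : R' ⊗[R] (J ^ n : Ideal A) :=
    ∑ α : P.support, (mulInto (R := R) (J ^ n) (fm α.1) (hfm α)).lTensor R' (coeff α.1 P)
  have ht : t = 0 := by
    refine injective_lTensor_ideal R' (J ^ n) ?_
    rw [map_zero, map_sum, ← hPe, eval_eq, ← Finset.sum_coe_sort P.support]
    refine Finset.sum_congr rfl fun α _ => ?_
    rw [lTensor_mulInto]
    simp only [fm, map_prod, map_pow]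
  by_cases hd : coeff d P = 0
  · rw [hd]; exact zero_mem _
  have hd' : d ∈ P.support := mem_support_iff.mpr hd
  obtain ⟨L, hL⟩ := exists_coeff_map f hf n d
  have key : ∀ α : P.support, (L.restrictScalars R).comp (mulInto (R := R) (J ^ n) (fm α.1) (hfm α)) =
      if α.1 = d then (Ideal.Quotient.mkₐ R J).toLinearMap else 0 := by
    intro α
    refine LinearMap.ext fun x => ?_
    have hhom : (monomial α.1 x).IsHomogeneous n := isHomogeneous_monomial _ (hdeg α.1 α.2)
    have he : eval f (monomial α.1 x) = x * fm α.1 := by rw [eval_monomial]; rfl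
    have := hL (monomial α.1 x) (by rw [he]; exact Ideal.mul_mem_left _ _ (hfm α)) hhom
    rw [show (L.restrictScalars R).comp (mulInto (R := R) (J ^ n) (fm α.1) (hfm α)) x = L ⟨x * fm α.1, _⟩ from rfl]
    simp only [he] at this
    rw [this, coeff_monomial]
    split_ifs with h
    · rfl
    · exact map_zero _
  have h0 := congrArg ((L.restrictScalars R).lTensor R') ht
  rw [map_zero, map_sum, Finset.sum_eq_single ⟨d, hd'⟩] at h0
  · rw [← LinearMap.comp_apply, ← LinearMap.lTensor_comp, key, if_pos rfl] at h0
    obtain ⟨w, hw⟩ := (lTensor_exact R' (f := J.subtype.restrictScalars R)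
      (g := (Ideal.Quotient.mkₐ R J).toLinearMap)
      (fun a => ⟨fun h => ⟨⟨a, Ideal.Quotient.eq_zero_iff_mem.mp h⟩, rfl⟩,
        fun ⟨x, hx⟩ => hx ▸ Ideal.Quotient.eq_zero_iff_mem.mpr x.2⟩) Ideal.Quotient.mk_surjective _).mp h0
    rw [← hw, show (Ideal.span (Set.range fun i => bcHom R' (f i))) = J.map (bcHom R') by
      rw [Ideal.map_span, ← Set.range_comp]; rfl]
    clear hw h0
    induction w using TensorProduct.induction_on with
    | zero => simp
    | tmul r x =>
      rw [LinearMap.lTensor_tmul]
      have : r ⊗ₜ[R] (x : A) = (r ⊗ₜ[R] (1 : A)) * bcHom (R := R) R' (x : A) := by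
        simp [Algebra.TensorProduct.tmul_mul_tmul]
      show r ⊗ₜ[R] (x : A) ∈ _
      rw [this]
      exact Ideal.mul_mem_left _ _ (Ideal.mem_map_of_mem _ x.2)
    | add x y hx hy => rw [map_add]; exact add_mem hx hy
  · intro α _ hα
    rw [← LinearMap.comp_apply, ← LinearMap.lTensor_comp, key, if_neg (fun h => hα (Subtype.ext h)),
      LinearMap.lTensor_zero]
    rfl
  · simp

/-- Base change along a cocartesian square of rings, for the kinds H₁ and quasi. -/
theorem map_of_isPushout {R A R' B : CommRingCat.{u}} {φ : R ⟶ A} {ψ : R ⟶ R'} {ι : A ⟶ B} {κ : R' ⟶ B}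
    (h : IsPushout φ ψ ι κ) {c : ℕ} (f : Fin c → A)
    (hflat : ((Ideal.Quotient.mk (Ideal.span (Set.range f))).comp φ.hom).Flat) :
    (CAlgX.IsH1Regular f → CAlgX.IsH1Regular (fun i => ι (f i))) ∧
      (CAlgX.IsQuasiRegular f → CAlgX.IsQuasiRegular (fun i => ι (f i))) := by
  algebraize [φ.hom, ψ.hom]
  haveI : Module.Flat R (A ⧸ Ideal.span (Set.range f)) := by
    have e : (algebraMap R (A ⧸ Ideal.span (Set.range f))) =
        (Ideal.Quotient.mk (Ideal.span (Set.range f))).comp φ.hom := rfl
    exact (RingHom.flat_algebraMap_iff).mp (e ▸ hflat)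
  let e : B ≅ CommRingCat.of (R' ⊗[R] A) :=
    h.isoIsPushout _ _ (CommRingCat.isPushout_tensorProduct R R' A).flip
  have he : ∀ a, ι a = e.inv (bcHom R' a) := fun a =>
    (congrArg (fun q : A ⟶ B => q a) (h.inl_isoIsPushout_inv _ _ (CommRingCat.isPushout_tensorProduct R R' A).flip)).symm
  have hfl : e.commRingCatIsoToRingEquiv.symm.toRingHom.Flat :=
    RingHom.Flat.of_bijective e.commRingCatIsoToRingEquiv.symm.bijective
  refine ⟨fun hf => ?_, fun hf => ?_⟩
  · have := isH1Regular_map e.commRingCatIsoToRingEquiv.symm.toRingHom hfl _ (isH1Regular_baseChange R' f hf)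
    simp only [he]
    exact this
  · have := isQuasiRegular_map e.commRingCatIsoToRingEquiv.symm.toRingHom hfl _ (isQuasiRegular_baseChange R' f hf)
    simp only [he]
    exact this

end GrothLib.SeqKinds
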