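import Groth.Agent.Lib.SeqKinds.Basic
import Mathlib.RingTheory.Filtration
import Mathlib.RingTheory.Henselian
import Mathlib.RingTheory.Regular.RegularSequence

/-!
# Quasi-regular sequences in the maximal ideal of a Noetherian local ring are weakly regular
-/

set_option autoImplicit false
set_option linter.all false
universe u

open MvPolynomial IsLocalRing RingTheory.Sequence

namespace GrothLib.SeqKinds

variable {A : Type u} [CommRing A]

/-- The value of a form of degree `n` with coefficients in `J = (f)` lies in `J ^ (n + 1)`. -/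
theorem eval_mem_pow_succ {c : ℕ} (f : Fin c → A) {n : ℕ} {Q : MvPolynomial (Fin c) A} (hQ : Q.IsHomogeneous n)
    (hc : ∀ d, coeff d Q ∈ Ideal.span (Set.range f)) : eval f Q ∈ Ideal.span (Set.range f) ^ (n + 1) := by
  rw [eval_eq]
  refine Ideal.sum_mem _ fun d hd => ?_
  rw [pow_succ']
  refine Ideal.mul_mem_mul (hc d) ?_
  have h := Ideal.prod_mem_prod (s := d.support) (I := fun i => Ideal.span (Set.range f) ^ d i)
    (x := fun i => f i ^ d i) (fun i _ => Ideal.pow_mem_pow (Ideal.subset_span ⟨i, rfl⟩ : f i ∈ Ideal.span (Set.range f)) _)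
  rw [Finset.prod_pow_eq_pow_sum] at h
  have hd' : d.degree = n := by
    rw [Finsupp.degree_eq_weight_one]; exact hQ (mem_support_iff.mp hd)
  rw [Finsupp.degree_apply] at hd'
  rwa [hd'] at h

/-- If `f i * x` is divisible enough then so is `x`, along a quasi-regular sequence. -/
theorem mem_pow_succ_of_mul_mem {c : ℕ} (f : Fin c → A) (hf : CAlgX.IsQuasiRegular f) (i : Fin c) (k : ℕ) {x : A}
    (hx : x ∈ Ideal.span (Set.range f) ^ k) (h : f i * x ∈ Ideal.span (Set.range f) ^ (k + 2)) :
    x ∈ Ideal.span (Set.range f) ^ (k + 1) := by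
  classical
  obtain ⟨Q, hQ, -, rfl⟩ := exists_homogeneous_eval f ⊤ k (x := x) (by rwa [Ideal.top_mul])
  refine eval_mem_pow_succ f hQ fun d => ?_
  have := hf (k + 1) (X i * Q) (by rw [add_comm]; exact (isHomogeneous_X A i).mul hQ)
    (by rwa [map_mul, eval_X]) (Finsupp.single i 1 + d)
  rwa [coeff_X_mul] at this

theorem isWeaklyRegular_of_isQuasiRegular_aux : ∀ (c : ℕ) {A : Type u} [CommRing A] [IsNoetherianRing A]
    [IsLocalRing A] (f : Fin c → A), (∀ i, f i ∈ maximalIdeal A) → CAlgX.IsQuasiRegular f →
      IsWeaklyRegular A (List.ofFn f)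
  | 0, A, _, _, _, f, _, _ => by simp
  | c + 1, A, _, _, _, f, hm, hf => by
    classical
    set J := Ideal.span (Set.range f) with hJ
    have hJtop : J ≠ ⊤ := fun h => (maximalIdeal.isMaximal A).ne_top
      (top_le_iff.mp (h ▸ Ideal.span_le.mpr (Set.range_subset_iff.mpr hm)))
    rw [List.ofFn_succ, isWeaklyRegular_cons_iff]
    refine ⟨(isSMulRegular_iff_right_eq_zero_of_smul).mpr fun x hx => ?_, ?_⟩
    · have hall : ∀ n, x ∈ J ^ n := by
        intro n
        induction n with
        | zero => simp
        | succ n ih =>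
          refine mem_pow_succ_of_mul_mem f hf 0 n ih ?_
          rw [smul_eq_mul] at hx
          rw [hx]; exact zero_mem _
      exact (Submodule.mem_bot A).mp ((Ideal.iInf_pow_eq_bot_of_isLocalRing J hJtop).le
        (Submodule.mem_iInf _ |>.mpr hall))
    let π := Ideal.Quotient.mk (Ideal.span {f 0})
    have hprop : Ideal.span {f 0} ≤ maximalIdeal A := by
      rw [Ideal.span_singleton_le_iff_mem]; exact hm 0
    haveI : Nontrivial (A ⧸ Ideal.span {f 0}) := Ideal.Quotient.nontrivial_iff.mpr
      fun h => (maximalIdeal.isMaximal A).ne_top (top_le_iff.mp (h ▸ hprop))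
    haveI : IsLocalRing (A ⧸ Ideal.span {f 0}) := IsLocalRing.of_surjective' π Ideal.Quotient.mk_surjective
    have hmap : J.map π = Ideal.span (Set.range fun i : Fin c => π (f i.succ)) := by
      rw [hJ, Ideal.map_span, ← Set.range_comp]
      refine le_antisymm (Ideal.span_le.mpr ?_) (Ideal.span_mono ?_)
      · rintro _ ⟨i, rfl⟩
        induction i using Fin.cases with
        | zero =>
          show π (f 0) ∈ _
          rw [show π (f 0) = 0 from Ideal.Quotient.eq_zero_iff_mem.mpr (Ideal.mem_span_singleton_self _)]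
          exact zero_mem _
        | succ i => exact Ideal.subset_span ⟨i, rfl⟩
      · rintro _ ⟨i, rfl⟩
        exact ⟨i.succ, rfl⟩
    have hq : CAlgX.IsQuasiRegular fun i : Fin c => π (f i.succ) := by
      refine isQuasiRegular_of_eval_eq_zero _ fun n P hP hPe d => ?_
      rcases n with _ | n
      · have h0 : P = C (coeff 0 P) := (totalDegree_eq_zero_iff_eq_C).mp
          (Nat.le_zero.mp (hP.totalDegree_le))
        rw [h0, eval_C] at hPe
        rw [h0, hPe]
        simp
      choose l hl using fun d => Ideal.Quotient.mk_surjective (coeff d P)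
      let Pt : MvPolynomial (Fin c) A := ∑ d ∈ P.support, monomial d (l d)
      have hPt : Pt.IsHomogeneous (n + 1) := IsHomogeneous.sum _ _ _ fun d hd => isHomogeneous_monomial _
        (by rw [Finsupp.degree_eq_weight_one]; exact hP (mem_support_iff.mp hd))
      have hPtc : ∀ d, π (coeff d Pt) = coeff d P := by
        intro d
        rw [coeff_sum, map_sum]
        simp only [coeff_monomial, apply_ite π, map_zero]
        rw [Finset.sum_ite_eq']
        split_ifs with h
        · exact hl d
        · exact (notMem_support_iff.mp h).symm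
      have hPtP : Pt.map π = P := MvPolynomial.ext _ _ fun d => by rw [coeff_map, hPtc]
      let PT : MvPolynomial (Fin (c + 1)) A := rename Fin.succ Pt
      have hPT : PT.IsHomogeneous (n + 1) := hPt.rename_isHomogeneous
      have hv : eval f PT ∈ Ideal.span {f 0} := by
        rw [← Ideal.Quotient.eq_zero_iff_mem, eval_rename, ← hPe, ← hPtP, eval_map]
        exact eval₂_comp _ _ _
      obtain ⟨y, hy⟩ := Ideal.mem_span_singleton'.mp hv
      have hmemn : eval f PT ∈ J ^ (n + 1) := by
        rw [eval_eq]
        refine Ideal.sum_mem _ fun e he => Ideal.mul_mem_left _ _ ?_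
        have h := Ideal.prod_mem_prod (s := e.support) (I := fun i => J ^ e i)
          (x := fun i => f i ^ e i) (fun i _ => Ideal.pow_mem_pow (Ideal.subset_span ⟨i, rfl⟩ : f i ∈ Ideal.span (Set.range f)) _)
        rw [Finset.prod_pow_eq_pow_sum] at h
        have hd' : e.degree = n + 1 := by
          rw [Finsupp.degree_eq_weight_one]; exact hPT (mem_support_iff.mp he)
        rw [Finsupp.degree_apply] at hd'
        rwa [hd'] at h
      have hyk : ∀ k, k ≤ n → y ∈ J ^ k := by
        intro k hk
        induction k with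
        | zero => simp
        | succ k ih =>
          refine mem_pow_succ_of_mul_mem f hf 0 k (ih (by omega)) ?_
          rw [mul_comm, hy]
          exact Ideal.pow_le_pow_right (by omega) hmemn
      obtain ⟨Q, hQ, -, hQe⟩ := exists_homogeneous_eval f ⊤ n (x := y) (by rw [Ideal.top_mul]; exact hyk n le_rfl)
      have hP' : (PT - X 0 * Q).IsHomogeneous (n + 1) :=
        hPT.sub (by have := (isHomogeneous_X A (0 : Fin (c + 1))).mul hQ; rwa [Nat.add_comm 1 n] at this)
      have := hf (n + 1) _ hP' (by rw [map_sub, map_mul, eval_X, hQe, ← hy, mul_comm, sub_self]; exact zero_mem _)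
        (Finsupp.mapDomain Fin.succ d)
      rw [coeff_sub, coeff_rename_mapDomain _ (Fin.succ_injective c), coeff_X_mul', if_neg, sub_zero] at this
      · rw [← hPtc, ← hmap]
        exact Ideal.mem_map_of_mem _ this
      · rw [Finsupp.mem_support_iff, not_not]
        exact Finsupp.mapDomain_notin_range _ _ fun ⟨i, hi⟩ => Fin.succ_ne_zero i hi
    have hrec := isWeaklyRegular_of_isQuasiRegular_aux c (fun i : Fin c => π (f i.succ)) (fun i => by
      rw [mem_maximalIdeal, mem_nonunits_iff]
      intro hu
      haveI : IsLocalHom π := isLocalHom_of_le_jacobson_bot _ (hprop.trans (maximalIdeal_le_jacobson _))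
      exact (mem_nonunits_iff.mp ((mem_maximalIdeal _).mp (hm i.succ))) (hu.of_map π)) hq
    rw [show (List.ofFn fun i : Fin c => π (f i.succ)) =
        (List.ofFn fun i : Fin c => f i.succ).map (algebraMap A (A ⧸ Ideal.span {f 0})) by
      rw [List.map_ofFn]; rfl, isWeaklyRegular_map_algebraMap_iff] at hrec
    refine (LinearEquiv.isWeaklyRegular_congr (Submodule.quotEquivOfEq _ _ ?_) _).mpr hrec
    rw [← Submodule.ideal_span_singleton_smul, smul_eq_mul, Ideal.mul_top]

/-- A quasi-regular sequence in the maximal ideal of a Noetherian local ring is weakly regular. -/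
theorem isWeaklyRegular_of_isQuasiRegular [IsNoetherianRing A] [IsLocalRing A] {c : ℕ} (f : Fin c → A)
    (hm : ∀ i, f i ∈ maximalIdeal A) (hf : CAlgX.IsQuasiRegular f) : IsWeaklyRegular A (List.ofFn f) :=
  isWeaklyRegular_of_isQuasiRegular_aux c f hm hf

/-- ... and regular. -/
theorem isRegular_of_isQuasiRegular [IsNoetherianRing A] [IsLocalRing A] {c : ℕ} (f : Fin c → A)
    (hm : ∀ i, f i ∈ maximalIdeal A) (hf : CAlgX.IsQuasiRegular f) : IsRegular A (List.ofFn f) := by
  refine ⟨isWeaklyRegular_of_isQuasiRegular f hm hf, fun h => ?_⟩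
  rw [smul_eq_mul, Ideal.mul_top] at h
  refine (maximalIdeal.isMaximal A).ne_top (top_le_iff.mp (h.le.trans ?_))
  rw [Ideal.ofList, Ideal.span_le]
  intro x hx
  obtain ⟨i, rfl⟩ := List.mem_ofFn.mp hx
  exact hm i

end GrothLib.SeqKinds
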