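import Groth.Prelude.Def_CAlgX
import Groth.Agent.Lib.KoszulColon.Regular
import Mathlib.RingTheory.MvPolynomial.Ideal
import Mathlib.RingTheory.MvPolynomial.Homogeneous
import Mathlib.RingTheory.Flat.EquationalCriterion
import Mathlib.LinearAlgebra.TensorProduct.RightExactness
import Mathlib.LinearAlgebra.DirectSum.Finsupp

/-!
# Kinds of regular sequences: Koszul regular ⇒ H₁-regular ⇒ quasi-regular, and flat base change

`isH1Regular_of_isKoszulRegularSeq`, `isQuasiRegular_of_isH1Regular`, `isH1Regular_map`, `isQuasiRegular_map`.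
-/

set_option autoImplicit false
set_option linter.all false
universe u

open TensorProduct MvPolynomial CategoryTheory Limits

namespace GrothLib.SeqKinds

section Quasi

variable {R : Type u} [CommRing R] {c : ℕ}

/-- An element of `K * J ^ n` is the value at `f` of a homogeneous polynomial with coefficients in `K`. -/
theorem exists_homogeneous_eval (f : Fin c → R) (K : Ideal R) : ∀ (n : ℕ) {x : R},
    x ∈ K * Ideal.span (Set.range f) ^ n → ∃ Q : MvPolynomial (Fin c) R,
      Q.IsHomogeneous n ∧ (∀ d, Q.coeff d ∈ K) ∧ eval f Q = x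
  | 0, x, hx => ⟨C x, isHomogeneous_C _ x, fun d => by
      classical
      rw [pow_zero, mul_one] at hx
      rw [coeff_C]; split_ifs <;> simp [hx], eval_C x⟩
  | n + 1, x, hx => by
      classical
      rw [pow_succ, ← mul_assoc] at hx
      induction hx using Submodule.mul_induction_on' with
      | mem_mul_mem y hy g hg =>
        obtain ⟨Q, hQ, hQK, rfl⟩ := exists_homogeneous_eval f K n hy
        obtain ⟨a, rfl⟩ := (Submodule.mem_span_range_iff_exists_fun R).mp hg
        refine ⟨Q * ∑ j, C (a j) * X j, hQ.mul (IsHomogeneous.sum _ _ 1 fun j _ => isHomogeneous_C_mul_X _ j),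
          fun d => ?_, by simp⟩
        rw [coeff_mul]
        exact Ideal.sum_mem _ fun p _ => Ideal.mul_mem_right _ _ (hQK _)
      | add y _ z _ hy hz =>
        obtain ⟨Q, hQ, hQK, rfl⟩ := hy
        obtain ⟨Q', hQ', hQK', rfl⟩ := hz
        exact ⟨Q + Q', hQ.add hQ', fun d => by rw [coeff_add]; exact add_mem (hQK d) (hQK' d), map_add _ _ _⟩

/-- Quasi-regularity only has to be tested on polynomials vanishing at the sequence. -/
theorem isQuasiRegular_of_eval_eq_zero (f : Fin c → R)
    (h : ∀ (n : ℕ) (P : MvPolynomial (Fin c) R), P.IsHomogeneous n → eval f P = 0 →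
      ∀ d, P.coeff d ∈ Ideal.span (Set.range f)) : CAlgX.IsQuasiRegular f := by
  intro n P hP hPe d
  rw [pow_succ'] at hPe
  obtain ⟨Q, hQ, hQK, hQe⟩ := exists_homogeneous_eval f _ n hPe
  have := h n (P - Q) (hP.sub hQ) (by rw [map_sub, hQe, sub_self]) d
  rw [coeff_sub] at this
  simpa using add_mem this (hQK d)

local notation "ℤX" => MvPolynomial (Fin c) ℤ

/-- `R ⊗ I → R` is injective for the ideal of the variables. -/
theorem injective_lTensor_vars (f : Fin c → R) (hf : CAlgX.IsH1Regular f) :
    letI := (aeval (R := ℤ) f).toRingHom.toAlgebra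
    Function.Injective ((idealOfVars (Fin c) ℤ).subtype.lTensor R) := by
  letI := (aeval (R := ℤ) f).toRingHom.toAlgebra
  have hX : ∀ i, (X i : ℤX) ∈ idealOfVars (Fin c) ℤ := fun i => Ideal.subset_span ⟨i, rfl⟩
  let ξ : Fin c → idealOfVars (Fin c) ℤ := fun i => ⟨X i, hX i⟩
  rw [injective_iff_map_eq_zero]
  intro t ht
  obtain ⟨a, rfl⟩ : ∃ a : Fin c → R, t = ∑ i, a i ⊗ₜ ξ i := by
    clear ht
    induction t using TensorProduct.induction_on with
    | zero => exact ⟨0, by simp⟩
    | tmul r p =>
      obtain ⟨g, hg⟩ := (Submodule.mem_span_range_iff_exists_fun ℤX).mp p.2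
      refine ⟨fun i => g i • r, ?_⟩
      have : p = ∑ i, g i • ξ i := Subtype.ext (by rw [← hg]; simp [ξ])
      rw [this, tmul_sum]
      exact Finset.sum_congr rfl fun i _ => (tmul_smul _ _ _).trans (smul_tmul' _ _ _).symm
    | add u v hu hv =>
      obtain ⟨a, rfl⟩ := hu
      obtain ⟨b, rfl⟩ := hv
      exact ⟨a + b, by simp [add_tmul, Finset.sum_add_distrib]⟩
  have hrel : ∑ i, a i * f i = 0 := by
    have := congrArg (TensorProduct.rid ℤX R) ht
    rw [map_zero, map_sum, map_sum] at this
    rw [← this]
    refine Finset.sum_congr rfl fun i _ => ?_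
    rw [LinearMap.lTensor_tmul, TensorProduct.rid_tmul, Algebra.smul_def, mul_comm]
    simp [ξ, RingHom.algebraMap_toAlgebra]
  have ha := hf a hrel
  have key : ∀ v ∈ Submodule.span R {v : Fin c → R | ∃ i j : Fin c,
      v = Pi.single i (f j) - Pi.single j (f i)}, ∀ r : R, ∑ i, (r * v i) ⊗ₜ[ℤX] ξ i = 0 := by
    intro v hv
    induction hv using Submodule.span_induction with
    | mem v hv =>
      obtain ⟨i, j, rfl⟩ := hv
      intro r
      simp only [Pi.sub_apply, mul_sub, sub_tmul, Finset.sum_sub_distrib]
      rw [Fintype.sum_eq_single i (fun l hl => by simp [Pi.single_eq_of_ne hl]),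
        Fintype.sum_eq_single j (fun l hl => by simp [Pi.single_eq_of_ne hl]), Pi.single_eq_same,
        Pi.single_eq_same, sub_eq_zero]
      have hfX : ∀ l, r * f l = (X l : ℤX) • r := fun l => by
        rw [Algebra.smul_def, mul_comm]; simp [RingHom.algebraMap_toAlgebra]
      rw [hfX, hfX, smul_tmul, smul_tmul]
      exact congrArg (r ⊗ₜ[ℤX] ·) (Subtype.ext (mul_comm _ _))
    | zero => intro r; simp
    | add v w _ _ hv hw =>
      intro r
      simp only [Pi.add_apply, mul_add, add_tmul, Finset.sum_add_distrib, hv r, hw r, add_zero]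
    | smul s v _ hv =>
      intro r
      simp only [Pi.smul_apply, smul_eq_mul, ← mul_assoc]
      exact hv (r * s)
  simpa using key a ha 1

/-- If `R ⊗ I → R` is injective then so is every `R ⊗ Iⁿ → R`. -/
theorem injective_lTensor_pow [Algebra ℤX R] (h : Function.Injective ((idealOfVars (Fin c) ℤ).subtype.lTensor R)) :
    ∀ n : ℕ, Function.Injective (((idealOfVars (Fin c) ℤ) ^ n).subtype.lTensor R)
  | 0 => by
    have hb : Function.Bijective ((idealOfVars (Fin c) ℤ) ^ 0).subtype :=
      ⟨Subtype.val_injective, fun x => ⟨⟨x, by simp⟩, rfl⟩⟩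
    exact (LinearEquiv.lTensor R (LinearEquiv.ofBijective _ hb)).injective
  | n + 1 => by
    classical
    set I := idealOfVars (Fin c) ℤ
    let D := {α : Fin c →₀ ℕ // α.degree = n}
    have hmem : ∀ α : D, (monomial α.1 (1 : ℤ)) ∈ I ^ n := fun α =>
      (monomial_mem_pow_idealOfVars_iff n α.1 one_ne_zero).mpr α.2.ge
    let ψ : (D →₀ ℤX) →ₗ[ℤX] (I ^ n : Ideal ℤX) :=
      Finsupp.linearCombination ℤX fun α : D => (⟨monomial α.1 1, hmem α⟩ : (I ^ n : Ideal ℤX))
    have hψ : ∀ (a : D →₀ ℤX) (α : D), coeff α.1 (ψ a : ℤX) = constantCoeff (a α) := by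
      intro a α
      induction a using Finsupp.induction_linear with
      | zero => simp
      | add a b ha hb => rw [map_add, Submodule.coe_add, coeff_add, ha, hb, Finsupp.add_apply, map_add]
      | single β g =>
        rw [show ψ (Finsupp.single β g) = g • ⟨monomial β.1 1, hmem β⟩ from Finsupp.linearCombination_single _ _ _]
        rw [Submodule.coe_smul, smul_eq_mul, coeff_mul_monomial']
        by_cases hαβ : β = α
        · subst hαβ
          rw [if_pos le_rfl, tsub_self, mul_one, Finsupp.single_eq_same, constantCoeff_eq]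
        · rw [Finsupp.single_eq_of_ne (Ne.symm hαβ), map_zero, if_neg]
          intro hle
          refine hαβ (Subtype.ext ?_)
          obtain ⟨γ, hγ⟩ := le_iff_exists_add.mp hle
          have hdeg := congrArg Finsupp.degree hγ
          rw [map_add, α.2, β.2] at hdeg
          have : γ = 0 := (Finsupp.degree_eq_zero_iff γ).mp (by omega)
          rw [hγ, this, add_zero]
    let incl : (I ^ (n + 1) : Ideal ℤX) →ₗ[ℤX] (I ^ n : Ideal ℤX) :=
      Submodule.inclusion (Ideal.pow_le_pow_right n.le_succ)
    let π := incl.coprod ψ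
    have hπ : Function.Surjective π := by
      intro p
      let a : D →₀ ℤX := ((p : ℤX).support.subtype fun α => α.degree = n).sum
        fun α => Finsupp.single α (C (coeff α.1 (p : ℤX)))
      have hin : ((p : ℤX) - (ψ a : ℤX)) ∈ I ^ (n + 1) := by
        rw [mem_pow_idealOfVars_iff']
        intro x hx
        rw [coeff_sub]
        rcases Nat.lt_succ_iff_lt_or_eq.mp hx with hlt | heq
        · rw [(mem_pow_idealOfVars_iff' n _).mp p.2 x hlt, (mem_pow_idealOfVars_iff' n _).mp (ψ a).2 x hlt,
            sub_self]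
        · rw [hψ a ⟨x, heq⟩, sub_eq_zero]
          simp only [a, Finsupp.finsetSum_apply, map_sum, Finsupp.single_apply, apply_ite constantCoeff,
            constantCoeff_C, map_zero, Finset.sum_ite_eq', Finset.mem_subtype]
          split_ifs with hs
          · rfl
          · simpa using hs
      exact ⟨(⟨_, hin⟩, a), Subtype.ext (by simp [π, incl])⟩
    let emb : (D →₀ I) →ₗ[ℤX] (D →₀ ℤX) := Finsupp.mapRange.linearMap I.subtype
    have hψI : ∀ b, (ψ (emb b) : ℤX) ∈ I ^ (n + 1) := by
      intro b
      induction b using Finsupp.induction_linear with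
      | zero => simp
      | add a b ha hb => rw [map_add, map_add]; exact add_mem ha hb
      | single β g =>
        rw [show emb (Finsupp.single β g) = Finsupp.single β (g : ℤX) from Finsupp.mapRange_single (hf := map_zero _),
          show ψ (Finsupp.single β (g : ℤX)) = (g : ℤX) • ⟨monomial β.1 1, hmem β⟩ from
            Finsupp.linearCombination_single _ _ _, Submodule.coe_smul, smul_eq_mul, pow_succ']
        exact Ideal.mul_mem_mul g.2 (hmem β)
    let κ : (D →₀ I) →ₗ[ℤX] (I ^ (n + 1) : Ideal ℤX) × (D →₀ ℤX) :=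
      (-(LinearMap.codRestrict (I ^ (n + 1)) ((Submodule.subtype _).comp (ψ.comp emb)) hψI)).prod emb
    have hκπ : Function.Exact κ π := by
      rintro ⟨p, a⟩
      constructor
      · intro hpa
        have he : (p : ℤX) + (ψ a : ℤX) = 0 := congrArg Subtype.val hpa
        have hψa : (ψ a : ℤX) ∈ I ^ (n + 1) := by
          rw [eq_neg_of_add_eq_zero_right he]; exact neg_mem p.2
        have hval : ∀ α, a α ∈ I := fun α => by
          have h0 : constantCoeff (a α) = 0 := by
            rw [← hψ]; exact (mem_pow_idealOfVars_iff' _ _).mp hψa _ (by rw [α.2]; exact n.lt_succ_self)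
          rw [← pow_one I, mem_pow_idealOfVars_iff']
          intro x hx
          rw [(Finsupp.degree_eq_zero_iff x).mp (by omega), ← constantCoeff_eq, h0]
        refine ⟨Finsupp.onFinset a.support (fun α => ⟨a α, hval α⟩) (fun α hα => ?_), ?_⟩
        · rw [Finsupp.mem_support_iff]; exact fun h0 => hα (Subtype.ext h0)
        have hemb : emb (Finsupp.onFinset a.support (fun α => ⟨a α, hval α⟩) (fun α hα =>
            Finsupp.mem_support_iff.mpr fun h0 => hα (Subtype.ext h0))) = a := by ext α; simp [emb]
        refine Prod.ext (Subtype.ext ?_) hemb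
        show -((ψ (emb _) : (I ^ n : Ideal ℤX)) : ℤX) = (p : ℤX)
        rw [hemb]
        exact (eq_neg_of_add_eq_zero_left he).symm
      · rintro ⟨b, hb⟩
        rw [← hb]
        exact Subtype.ext (neg_add_cancel ((ψ (emb b) : (I ^ n : Ideal ℤX)) : ℤX))
    have hex := @lTensor_exact ℤX (D →₀ I) ((I ^ (n + 1) : Ideal ℤX) × (D →₀ ℤX)) ↥(I ^ n : Ideal ℤX) _ _ _ _ _ _ _ κ π R _ _ hκπ hπ
    have hemb : Function.Injective (emb.lTensor R) := by
      rw [injective_iff_map_eq_zero]
      intro u hu
      refine (TensorProduct.finsuppRight ℤX ℤX R I D).injective ?_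
      rw [map_zero]
      refine Finsupp.ext fun α => h ?_
      rw [Finsupp.zero_apply, map_zero, finsuppRight_apply, ← LinearMap.comp_apply, ← LinearMap.lTensor_comp]
      have e : I.subtype.comp (Finsupp.lapply α) = (Finsupp.lapply α).comp emb := by
        ext β g; simp [emb, Finsupp.single_apply, apply_ite (fun x : I => (x : ℤX))]
      rw [e, LinearMap.lTensor_comp, LinearMap.comp_apply, hu, map_zero]
    have hincl : Function.Injective (incl.lTensor R) := by
      rw [injective_iff_map_eq_zero]
      intro t ht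
      set inl := LinearMap.inl ℤX (I ^ (n + 1) : Ideal ℤX) (D →₀ ℤX)
      obtain ⟨u, hu⟩ := (hex ((inl.lTensor R) t)).mp (by
        rw [← LinearMap.comp_apply, ← LinearMap.lTensor_comp, LinearMap.coprod_inl]; exact ht)
      have hu0 : u = 0 := hemb (by
        have := congrArg ((LinearMap.snd ℤX _ _).lTensor R) hu
        rw [← LinearMap.comp_apply, ← LinearMap.lTensor_comp, ← LinearMap.comp_apply, ← LinearMap.lTensor_comp,
          LinearMap.snd_prod, LinearMap.snd_comp_inl, LinearMap.lTensor_zero] at this
        simpa using this)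
      have := congrArg ((LinearMap.fst ℤX _ _).lTensor R) hu
      rw [hu0, map_zero, map_zero, ← LinearMap.comp_apply, ← LinearMap.lTensor_comp, LinearMap.fst_comp_inl,
        LinearMap.lTensor_id] at this
      simpa using this.symm
    have : (I ^ (n + 1)).subtype = (I ^ n).subtype.comp incl := rfl
    rw [this, LinearMap.lTensor_comp]
    exact (injective_lTensor_pow h n).comp hincl

/-- An `H₁`-regular sequence is quasi-regular. -/
theorem isQuasiRegular_of_isH1Regular (f : Fin c → R) (hf : CAlgX.IsH1Regular f) : CAlgX.IsQuasiRegular f := by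
  refine isQuasiRegular_of_eval_eq_zero f fun n P hP hPe => ?_
  letI := (aeval (R := ℤ) f).toRingHom.toAlgebra
  have hinj := injective_lTensor_pow (injective_lTensor_vars f hf) n
  set J := Ideal.span (Set.range f)
  have hdeg : ∀ α ∈ P.support, α.degree = n := fun α hα => by
    have := hP (mem_support_iff.mp hα)
    rw [Finsupp.degree_eq_weight_one]; exact this
  let t : R ⊗[ℤX] ((idealOfVars (Fin c) ℤ) ^ n : Ideal ℤX) :=
    ∑ α ∈ P.support.attach, coeff α.1 P ⊗ₜ ⟨monomial α.1 1,
      (monomial_mem_pow_idealOfVars_iff n α.1 one_ne_zero).mpr (hdeg α.1 α.2).ge⟩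
  have ht : t = 0 := by
    refine hinj ((TensorProduct.rid ℤX R).injective ?_)
    rw [map_zero, map_zero, map_sum, map_sum, ← hPe, eval_eq, ← Finset.sum_attach P.support]
    refine Finset.sum_congr rfl fun α _ => ?_
    rw [LinearMap.lTensor_tmul, TensorProduct.rid_tmul, Algebra.smul_def, mul_comm]
    simp [RingHom.algebraMap_toAlgebra, aeval_monomial, Finsupp.prod]
  intro d
  by_cases hd : coeff d P = 0
  · rw [hd]; exact zero_mem _
  have hd' : d ∈ P.support := mem_support_iff.mpr hd
  let L : R ⊗[ℤX] ((idealOfVars (Fin c) ℤ) ^ n : Ideal ℤX) →+ R ⧸ J :=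
    TensorProduct.liftAddHom
      (AddMonoidHom.mk' (fun r => AddMonoidHom.mk'
        (fun p => Ideal.Quotient.mk J r * ((coeff d (p : ℤX) : ℤ) : R ⧸ J))
        (fun p q => by simp [mul_add]))
        (fun r s => by ext p; simp [add_mul]))
      (fun g r p => by
        show Ideal.Quotient.mk J (g • r) * ((coeff d (p : ℤX) : ℤ) : R ⧸ J) =
          Ideal.Quotient.mk J r * ((coeff d ((g • p : _) : ℤX) : ℤ) : R ⧸ J)
        have h1 : Ideal.Quotient.mk J (aeval (R := ℤ) f g) = ((constantCoeff g : ℤ) : R ⧸ J) := by
          induction g using MvPolynomial.induction_on with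
          | C a => simp
          | add a b ha hb => simp [ha, hb]
          | mul_X a i ha =>
            rw [map_mul, aeval_X, map_mul (Ideal.Quotient.mk J),
              Ideal.Quotient.eq_zero_iff_mem.mpr (Ideal.subset_span ⟨i, rfl⟩ : f i ∈ J), mul_zero, map_mul,
              constantCoeff_X, mul_zero, Int.cast_zero]
        have h2 : coeff d ((g • p : _) : ℤX) = constantCoeff g * coeff d (p : ℤX) := by
          classical
          rw [Submodule.coe_smul, smul_eq_mul, coeff_mul, Finset.sum_eq_single (0, d)]
          · rfl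
          · rintro ⟨x, y⟩ hxy hne
            rw [Finset.mem_antidiagonal] at hxy
            simp only at hxy
            have hy : y.degree < n := by
              have hdd := congrArg Finsupp.degree hxy
              rw [map_add, hdeg d hd'] at hdd
              by_contra hlt
              refine hne ?_
              have hx0 : x = 0 := (Finsupp.degree_eq_zero_iff x).mp (by omega)
              rw [hx0, zero_add] at hxy
              rw [hx0, hxy]
            rw [(mem_pow_idealOfVars_iff' n _).mp p.2 y hy, mul_zero]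
          · intro h; simp at h
        rw [h2, Algebra.smul_def, map_mul]
        erw [h1]
        push_cast
        ring)
  have := congrArg L ht
  rw [map_zero, map_sum, Finset.sum_eq_single ⟨d, hd'⟩] at this
  · refine Ideal.Quotient.eq_zero_iff_mem.mp ?_
    rw [← this]
    show _ = Ideal.Quotient.mk J (coeff d P) * ((coeff d (monomial d (1 : ℤ)) : ℤ) : R ⧸ J)
    simp
  · intro α _ hα
    show Ideal.Quotient.mk J (coeff α.1 P) * ((coeff d (monomial α.1 (1 : ℤ)) : ℤ) : R ⧸ J) = 0
    have : α.1 ≠ d := fun h => hα (Subtype.ext h)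
    simp [this]
  · intro h; exact absurd (Finset.mem_attach _ _) h

variable {S : Type u} [CommRing S]

/-- Flat base change of `H₁`-regular sequences. -/
theorem isH1Regular_map (φ : R →+* S) (hφ : φ.Flat) (f : Fin c → R) (hf : CAlgX.IsH1Regular f) :
    CAlgX.IsH1Regular (φ ∘ f) := by
  letI := φ.toAlgebra
  haveI : Module.Flat R S := hφ
  intro b hb
  obtain ⟨k, a, y, hby, ha⟩ := Module.Flat.isTrivialRelation_of_sum_smul_eq_zero (f := f) (x := b)
    (by rw [← hb]; refine Finset.sum_congr rfl fun i _ => ?_; rw [Algebra.smul_def, mul_comm]; rfl)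
  have hb' : b = ∑ j, y j • (fun i => φ (a i j)) := by
    funext i
    rw [hby, Finset.sum_apply]
    exact Finset.sum_congr rfl fun j _ => by rw [Pi.smul_apply, Algebra.smul_def, smul_eq_mul, mul_comm]; rfl
  rw [hb']
  refine Submodule.sum_mem _ fun j _ => Submodule.smul_mem _ _ ?_
  have hj := hf (fun i => a i j) (by rw [← ha j]; exact Finset.sum_congr rfl fun i _ => mul_comm _ _)
  clear ha hb' hby
  generalize hv : (fun i => a i j) = v at hj
  rw [show (fun i => φ (a i j)) = φ ∘ v by rw [← hv]; rfl]
  clear hv
  induction hj using Submodule.span_induction with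
  | mem v hv =>
    obtain ⟨i, j, rfl⟩ := hv
    refine Submodule.subset_span ⟨i, j, ?_⟩
    funext l
    simp [Pi.single_apply, apply_ite φ]
  | zero => convert Submodule.zero_mem _; funext l; simp
  | add v w _ _ hv hw => convert add_mem hv hw; funext l; simp
  | smul r v _ hv => convert Submodule.smul_mem _ (φ r) hv; funext l; simp

/-- Flat base change of quasi-regular sequences. -/
theorem isQuasiRegular_map (φ : R →+* S) (hφ : φ.Flat) (f : Fin c → R) (hf : CAlgX.IsQuasiRegular f) :
    CAlgX.IsQuasiRegular (φ ∘ f) := by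
  classical
  refine isQuasiRegular_of_eval_eq_zero _ fun n P hP hPe d => ?_
  letI := φ.toAlgebra
  haveI : Module.Flat R S := hφ
  obtain ⟨k, a, y, hby, ha⟩ := Module.Flat.isTrivialRelation_of_sum_smul_eq_zero
    (f := fun α : P.support => ∏ i ∈ α.1.support, f i ^ α.1 i) (x := fun α : P.support => coeff α.1 P)
    (by
      rw [← hPe, eval_eq, ← Finset.sum_coe_sort P.support]
      refine Finset.sum_congr rfl fun α _ => ?_
      rw [Algebra.smul_def, RingHom.algebraMap_toAlgebra, map_prod, mul_comm]
      simp)
  by_cases hd : coeff d P = 0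
  · rw [hd]; exact zero_mem _
  have hd' : d ∈ P.support := mem_support_iff.mpr hd
  rw [show coeff d P = _ from hby ⟨d, hd'⟩]
  refine Ideal.sum_mem _ fun j _ => ?_
  rw [Algebra.smul_def, Set.range_comp, ← Ideal.map_span]
  refine Ideal.mul_mem_right _ _ (Ideal.mem_map_of_mem φ ?_)
  let Q : MvPolynomial (Fin c) R := ∑ α : P.support, monomial α.1 (a α j)
  have hQ : Q.IsHomogeneous n := IsHomogeneous.sum _ _ _ fun α _ => isHomogeneous_monomial _ (by
    rw [Finsupp.degree_eq_weight_one]; exact hP (mem_support_iff.mp α.2))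
  have hQe : eval f Q = 0 := by
    rw [map_sum, ← ha j]
    refine Finset.sum_congr rfl fun α _ => ?_
    rw [eval_monomial, mul_comm]; rfl
  have := hf n Q hQ (by rw [hQe]; exact zero_mem _) d
  rwa [show coeff d Q = a ⟨d, hd'⟩ j by
    rw [coeff_sum, Finset.sum_eq_single ⟨d, hd'⟩]
    · simp
    · intro α _ hα
      exact by rw [coeff_monomial, if_neg]; exact fun h => hα (Subtype.ext h)
    · simp] at this

end Quasi

section Koszul

open GrothLib.KoszulColon

variable {Q : Type u} [CommRing Q] {M : Type u} [AddCommGroup M] [Module Q M] (γ : Module.Dual Q M)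

/-- The trivial relations among the values of `γ`. -/
abbrev trivRel (vs : List M) : Submodule Q (Fin vs.length → Q) :=
  Submodule.span Q {v | ∃ i j : Fin vs.length,
    v = Pi.single i (γ (vs.get j)) - Pi.single j (γ (vs.get i))}

theorem smul_unit_injective (vs : List M) {r s : Q} (h : r • unit γ vs = s • unit γ vs) : r = s := by
  have := congrArg (fun x => ExteriorAlgebra.algebraMapInv (phi γ vs 0 x)) h
  simpa [phi_unit, Algebra.smul_def] using this

/-- The Koszul complex in degree `-1` is the free module on the sequence, with boundaries inside the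
trivial relations. -/
theorem exists_degree_neg_one : ∀ vs : List M, ∃ κ : (Fin vs.length → Q) →ₗ[Q] (kc γ vs).X (-1),
    (∀ a, ((kc γ vs).d (-1) 0).hom (κ a) = (∑ i, a i * γ (vs.get i)) • unit γ vs) ∧
    Function.Injective κ ∧ Function.Surjective κ ∧
    LinearMap.range ((kc γ vs).d (-2) (-1)).hom ≤ (trivRel γ vs).map κ
  | [] => by
    haveI := ModuleCat.subsingleton_of_isZero (isZero_nil γ (show (-1 : ℤ) ≠ 0 by omega))
    exact ⟨0, fun a => by simp, fun a b _ => funext fun i => i.elim0, fun x => ⟨0, Subsingleton.elim _ _⟩,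
      fun x _ => ⟨0, zero_mem _, Subsingleton.elim _ _⟩⟩
  | v :: vs => by
    obtain ⟨κ, hd, hinj, hsurj, hrange⟩ := exists_degree_neg_one vs
    let κ' : (Fin (v :: vs).length → Q) →ₗ[Q] (kc γ (v :: vs)).X (-1) :=
      { toFun := fun a => (in₁ γ v vs (-1) 0 (by omega)).hom (a 0 • unit γ vs) +
          (in₂ γ v vs (-1)).hom (κ fun i => a i.succ)
        map_add' := fun a b => by
          rw [Pi.add_apply, add_smul, map_add,
            show (fun i : Fin vs.length => (a + b) i.succ) = (fun i => a i.succ) + fun i => b i.succ from rfl,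
            map_add, map_add]
          abel
        map_smul' := fun r a => by
          rw [Pi.smul_apply, smul_eq_mul, mul_smul, map_smul,
            show (fun i : Fin vs.length => (r • a) i.succ) = r • fun i => a i.succ from rfl, map_smul, map_smul,
            RingHom.id_apply, smul_add]
          simp only [map_smul] }
    refine ⟨κ', fun a => ?_, fun a b hab => ?_, fun x => ?_, ?_⟩
    · show ((kc γ (v :: vs)).d (-1) 0).hom (_ + _) = _
      rw [map_add, d_in₁ γ v vs (-1) 0 1 (by omega) (by omega), d_in₂,
        eq_zero_out γ vs 1 (Or.inl (by omega)) (((kc γ vs).d 0 1).hom _), map_zero, sub_zero, hd]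
      rw [smul_smul, ← map_add, ← add_smul, map_smul]
      change _ = (∑ i : Fin (vs.length + 1), _) • (in₂ γ v vs 0).hom (unit γ vs)
      rw [Fin.sum_univ_succ, mul_comm]
      rfl
    · have h1 := congrArg (pr₁ γ v vs (-1) 0 (by omega)).hom hab
      have h2 := congrArg (pr₂ γ v vs (-1)).hom hab
      simp only [κ', LinearMap.coe_mk, AddHom.coe_mk, map_add, pr₁_in₁, pr₁_in₂, add_zero] at h1
      simp only [κ', LinearMap.coe_mk, AddHom.coe_mk, map_add, pr₂_in₁, pr₂_in₂, zero_add] at h2
      funext i
      induction i using Fin.cases with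
      | zero => exact smul_unit_injective γ vs h1
      | succ i => exact congrFun (hinj h2) i
    · obtain ⟨r, hr⟩ := exists_smul_unit γ vs ((pr₁ γ v vs (-1) 0 (by omega)).hom x)
      obtain ⟨a, ha⟩ := hsurj ((pr₂ γ v vs (-1)).hom x)
      refine ⟨Fin.cons r a, ?_⟩
      show (in₁ γ v vs (-1) 0 _).hom ((Fin.cons r a : Fin (vs.length + 1) → Q) 0 • unit γ vs) +
        (in₂ γ v vs (-1)).hom (κ fun i => (Fin.cons r a : Fin (vs.length + 1) → Q) i.succ) = x
      simp only [Fin.cons_zero, Fin.cons_succ]
      rw [← hr, ha]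
      exact (pr_decomp γ v vs (-1) 0 (by omega) x).symm
    · rintro _ ⟨x, rfl⟩
      rw [pr_decomp γ v vs (-2) (-1) (by omega) x, map_add]
      refine add_mem ?_ ?_
      · obtain ⟨b, hb⟩ := hsurj ((pr₁ γ v vs (-2) (-1) (by omega)).hom x)
        rw [← hb, d_in₁ γ v vs (-2) (-1) 0 (by omega) (by omega), hd, ← map_smul]
        let W : Fin (vs.length + 1) → Q := ∑ l : Fin vs.length, b l •
          ((Pi.single l.succ (γ v) : Fin (vs.length + 1) → Q) - Pi.single 0 (γ (vs.get l)))
        refine ⟨W, Submodule.sum_mem _ fun l _ => Submodule.smul_mem _ _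
            (Submodule.subset_span ⟨l.succ, 0, rfl⟩), ?_⟩
        show (in₁ γ v vs (-1) 0 _).hom (W 0 • unit γ vs) + (in₂ γ v vs (-1)).hom (κ fun i => W i.succ) = _
        have e0 : W 0 = -∑ l, b l * γ (vs.get l) := by
          simp only [W]
          rw [Finset.sum_apply, ← Finset.sum_neg_distrib]
          exact Finset.sum_congr rfl fun l _ => by simp [(Fin.succ_ne_zero l).symm]
        have es : (fun i : Fin vs.length => W i.succ) = γ v • b := by
          funext i
          simp only [W]
          rw [Finset.sum_apply, Finset.sum_eq_single i]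
          · simp [Fin.succ_ne_zero, mul_comm]
          · intro l _ hl; simp [Fin.succ_ne_zero, Fin.succ_inj, Ne.symm hl]
          · simp
        rw [e0, es]
        rw [neg_smul, map_neg]
        abel
      · rw [d_in₂]
        obtain ⟨t, ht, hte⟩ := hrange ⟨(pr₂ γ v vs (-2)).hom x, rfl⟩
        rw [← hte]
        refine ⟨Fin.cons 0 t, ?_, ?_⟩
        · let ins : (Fin vs.length → Q) →ₗ[Q] (Fin (vs.length + 1) → Q) :=
            { toFun := fun t => Fin.cons 0 t
              map_add' := fun a b => funext (Fin.cases (by simp) fun i => by simp)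
              map_smul' := fun r a => funext (Fin.cases (by simp) fun i => by simp) }
          refine (show (trivRel γ vs).map ins ≤ trivRel γ (v :: vs) from ?_) ⟨t, ht, rfl⟩
          rw [Submodule.map_span_le]
          rintro _ ⟨i, j, rfl⟩
          refine Submodule.subset_span ⟨i.succ, j.succ, funext (Fin.cases ?_ fun l => ?_)⟩
          · simp [ins, (Fin.succ_ne_zero _).symm]
          · simp [ins, Pi.single_apply, Fin.succ_inj]
        · show (in₁ γ v vs (-1) 0 _).hom ((Fin.cons 0 t : Fin (vs.length + 1) → Q) 0 • unit γ vs) +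
            (in₂ γ v vs (-1)).hom (κ fun i => (Fin.cons 0 t : Fin (vs.length + 1) → Q) i.succ) = _
          simp only [Fin.cons_zero, Fin.cons_succ, zero_smul, map_zero, zero_add]

/-- A Koszul regular sequence is `H₁`-regular. -/
theorem isH1Regular_of_isKoszulRegularSeq {P : Type u} [CommRing P] (l : List P)
    (h : LCI.IsKoszulRegularSeq P l) : CAlgX.IsH1Regular l.get := by
  obtain ⟨κ, hd, hinj, -, hrange⟩ := exists_degree_neg_one (LinearMap.id : Module.Dual P P) l
  intro a ha
  have hl : l.map (LinearMap.id : Module.Dual P P) = l := by simp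
  have hex : (kc (LinearMap.id : Module.Dual P P) l).ExactAt (-1) := by
    rw [show kc (LinearMap.id : Module.Dual P P) l = Koszul.koszul P l from congrArg _ hl,
      HomologicalComplex.exactAt_iff_isZero_homology]
    exact h (-1) (by omega)
  rw [HomologicalComplex.exactAt_iff' _ (-2) (-1) 0 (by simp) (by simp), ShortComplex.moduleCat_exact_iff] at hex
  obtain ⟨y, hy⟩ := hex (κ a) (by
    refine (hd a).trans ?_
    simp only [LinearMap.id_apply]
    rw [ha, zero_smul]
    rfl)
  obtain ⟨t, ht, hte⟩ := hrange ⟨y, rfl⟩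
  have : t = a := hinj (hte.trans hy)
  exact this ▸ ht

end Koszul

end GrothLib.SeqKinds
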